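import Groth.Agent.Lib.LRSImm8.Basic

/-!
# Factoring through a closed immersion of locally ringed spaces
-/

set_option autoImplicit false
set_option backward.isDefEq.respectTransparency false
set_option backward.isDefEq.respectTransparency.types false
set_option linter.unusedSectionVars false

universe u

open CategoryTheory TopologicalSpace Opposite AlgebraicGeometry

noncomputable section

namespace Groth.Agent.LRSFactor2

open Groth.Agent.LRSImm8

variable {Z X Y : LocallyRingedSpace.{u}} {i : Z ⟶ X}

theorem eq_of_comp_eq (he : Topology.IsClosedEmbedding i.base) (hs : SurjStalks i) {g g' : Y ⟶ Z}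
    (h : g ≫ i = g' ≫ i) : g = g' := by
  have : Mono (LocallyRingedSpace.forgetToSheafedSpace.map i) :=
    SheafedSpace.mono_of_base_injective_of_stalk_epi _ he.injective fun x =>
      (CategoryTheory.ConcreteCategory.epi_of_surjective _ (hs x))
  apply LocallyRingedSpace.forgetToSheafedSpace.map_injective
  rw [← cancel_mono (LocallyRingedSpace.forgetToSheafedSpace.map i), ← Functor.map_comp, ← Functor.map_comp, h]

variable (he : Topology.IsClosedEmbedding i.base) (hs : SurjStalks i) {f : Y ⟶ X}
  (hv : ∀ (U : Opens X.toTopCat) (s : X.presheaf.obj (op U)), i.c.app (op U) s = 0 → f.c.app (op U) s = 0)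

include he hv in
theorem mem_range (y : Y.toTopCat) : f.base y ∈ Set.range i.base := by
  by_contra hy
  let U : Opens X.toTopCat := ⟨(Set.range i.base)ᶜ, he.isClosed_range.isOpen_compl⟩
  have h1 := hv U 1 (killed_of_disjoint (U := U) (fun z hz => hz ⟨z, rfl⟩) 1)
  rw [map_one] at h1
  have h2 : (1 : Y.presheaf.stalk y) = 0 := by
    rw [← map_one (Y.presheaf.germ ((Opens.map f.base).obj U) y hy).hom]
    exact (congrArg (Y.presheaf.germ ((Opens.map f.base).obj U) y hy) h1).trans (map_zero _)
  exact one_ne_zero h2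

/-- The underlying map of the factorisation. -/
def gFun (y : Y.toTopCat) : Z.toTopCat := (mem_range he hv y).choose

theorem gFun_spec (y : Y.toTopCat) : i.base (gFun he hv y) = f.base y := (mem_range he hv y).choose_spec

/-- The underlying continuous map. -/
def gBase : Y.toTopCat ⟶ Z.toTopCat :=
  TopCat.ofHom ⟨gFun he hv, he.isInducing.continuous_iff.2 (by
    rw [show i.base ∘ gFun he hv = f.base from funext (gFun_spec he hv)]
    exact f.base.hom.continuous)⟩

theorem gBase_comp : gBase he hv ≫ i.base = f.base :=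
  ConcreteCategory.hom_ext _ _ (gFun_spec he hv)

/-- The stalk map of `f` read at the point of `Z`. -/
def comap (y : Y.toTopCat) : X.presheaf.stalk (i.base (gFun he hv y)) ⟶ Y.presheaf.stalk y :=
  (X.presheaf.stalkCongr (Inseparable.of_eq (gFun_spec he hv y))).hom ≫ f.stalkMap y

theorem comap_germ (y : Y.toTopCat) (U : Opens X.toTopCat) (hU : i.base (gFun he hv y) ∈ U)
    (s : X.presheaf.obj (op U)) :
    comap he hv y (X.presheaf.germ U _ hU s) =
      Y.presheaf.germ ((Opens.map f.base).obj U) y
        (show f.base y ∈ U by rw [← gFun_spec he hv y]; exact hU) (f.c.app (op U) s) := by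
  show f.stalkMap y ((X.presheaf.stalkCongr _).hom (X.presheaf.germ U _ hU s)) = _
  rw [TopCat.Presheaf.stalkCongr_hom, TopCat.Presheaf.germ_stalkSpecializes_apply]
  exact LocallyRingedSpace.stalkMap_germ_apply f U y _ s

include hs in
theorem exists_psi (y : Y.toTopCat) : ∃ ψ : Z.presheaf.stalk (gFun he hv y) ⟶ Y.presheaf.stalk y,
    i.stalkMap (gFun he hv y) ≫ ψ = comap he hv y := by
  have hk : RingHom.ker (i.stalkMap (gFun he hv y)).hom ≤ RingHom.ker (comap he hv y).hom := fun w hw => by
    obtain ⟨W, hW, t, ht, rfl⟩ := exists_killed he hw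
    rw [RingHom.mem_ker]
    refine (comap_germ he hv y W hW t).trans ?_
    rw [hv W t ht, map_zero]
  exact ⟨CommRingCat.ofHom (RingHom.liftOfSurjective (i.stalkMap (gFun he hv y)).hom (hs _) ⟨_, hk⟩),
    CommRingCat.hom_ext (RingHom.ext fun w =>
      RingHom.liftOfRightInverse_comp_apply _ _ (Function.rightInverse_surjInv (hs _))
        ⟨(comap he hv y).hom, hk⟩ w)⟩

/-- The stalk map of the factorisation. -/
def psi (y : Y.toTopCat) : Z.presheaf.stalk (gFun he hv y) ⟶ Y.presheaf.stalk y :=
  (exists_psi he hs hv y).choose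

theorem psi_spec (y : Y.toTopCat) : i.stalkMap (gFun he hv y) ≫ psi he hs hv y = comap he hv y :=
  (exists_psi he hs hv y).choose_spec

/-- A section of `Y` with the prescribed germs. -/
def IsImg (W : Opens Z.toTopCat) (t : Z.presheaf.obj (op W))
    (u : Y.presheaf.obj (op ((Opens.map (gBase he hv)).obj W))) : Prop :=
  ∀ (y : Y.toTopCat) (hy : gFun he hv y ∈ W),
    Y.presheaf.germ ((Opens.map (gBase he hv)).obj W) y hy u = psi he hs hv y (Z.presheaf.germ W _ hy t)

theorem IsImg.unique {W : Opens Z.toTopCat} {t : Z.presheaf.obj (op W)}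
    {u u' : Y.presheaf.obj (op ((Opens.map (gBase he hv)).obj W))} (h : IsImg he hs hv W t u)
    (h' : IsImg he hs hv W t u') : u = u' :=
  TopCat.Presheaf.section_ext Y.sheaf _ u u' fun y hy => (h y hy).trans (h' y hy).symm

include hs in
theorem exists_local {W : Opens Z.toTopCat} (t : Z.presheaf.obj (op W)) (y : Y.toTopCat)
    (hy : gFun he hv y ∈ W) :
    ∃ (O : Opens Y.toTopCat) (_ : y ∈ O) (hO : O ≤ (Opens.map (gBase he hv)).obj W) (u : Y.presheaf.obj (op O)),
      ∀ (y' : Y.toTopCat) (hy' : y' ∈ O),
        Y.presheaf.germ O y' hy' u = psi he hs hv y' (Z.presheaf.germ W _ (hO hy') t) := by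
  obtain ⟨w, hw⟩ := hs (gFun he hv y) (Z.presheaf.germ W _ hy t)
  obtain ⟨U, hU, s, rfl⟩ := X.presheaf.germ_exist w
  have hw' : Z.presheaf.germ ((Opens.map i.base).obj U) _ hU (i.c.app (op U) s) = Z.presheaf.germ W _ hy t :=
    (LocallyRingedSpace.stalkMap_germ_apply i U _ hU s).symm.trans hw
  obtain ⟨N, hN, i₁, i₂, e⟩ := Z.presheaf.germ_eq _ hU hy _ _ hw'
  refine ⟨(Opens.map (gBase he hv)).obj N ⊓ (Opens.map f.base).obj U,
    ⟨hN, show f.base y ∈ U by rw [← gFun_spec he hv y]; exact hU⟩, fun y' h => leOfHom i₂ h.1,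
    Y.presheaf.map (homOfLE inf_le_right).op (f.c.app (op U) s), fun y' hy' => ?_⟩
  refine (Y.presheaf.germ_res_apply _ _ _ _).trans ?_
  have hU' : i.base (gFun he hv y') ∈ U := by rw [gFun_spec he hv y']; exact hy'.2
  refine (comap_germ he hv y' U hU' s).symm.trans ?_
  rw [← psi_spec he hs hv y']
  show psi he hs hv y' (i.stalkMap _ (X.presheaf.germ U _ hU' s)) = _
  refine congrArg _ ((LocallyRingedSpace.stalkMap_germ_apply i U _ hU' s).trans ?_)
  rw [← Z.presheaf.germ_res_apply i₁ _ (show gFun he hv y' ∈ N from hy'.1), e, Z.presheaf.germ_res_apply]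
  rfl

include hs in
theorem exists_img (W : Opens Z.toTopCat) (t : Z.presheaf.obj (op W)) : ∃ u, IsImg he hs hv W t u := by
  choose O hyO hO u hu using fun y : {y : Y.toTopCat // gFun he hv y ∈ W} => exists_local he hs hv t y.1 y.2
  obtain ⟨v, hv', -⟩ := TopCat.Sheaf.existsUnique_gluing' Y.sheaf O ((Opens.map (gBase he hv)).obj W)
    (fun y => homOfLE (hO y)) (fun y hy => Opens.mem_iSup.2 ⟨⟨y, hy⟩, hyO _⟩) u fun a b => by
      refine TopCat.Presheaf.section_ext Y.sheaf _ _ _ fun y hy => ?_
      refine (Y.presheaf.germ_res_apply _ _ _ _).trans ?_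
      refine Eq.trans ?_ (Y.presheaf.germ_res_apply _ _ _ _).symm
      rw [hu a y hy.1, hu b y hy.2]
  refine ⟨v, fun y hy => ?_⟩
  refine Eq.trans ?_ (hu ⟨y, hy⟩ y (hyO _))
  refine Eq.trans ?_ (congrArg (Y.presheaf.germ (O ⟨y, hy⟩) y (hyO _)) (hv' ⟨y, hy⟩))
  exact (Y.presheaf.germ_res_apply _ _ _ _).symm

/-- The map on sections. -/
def app (W : Opens Z.toTopCat) :
    Z.presheaf.obj (op W) ⟶ Y.presheaf.obj (op ((Opens.map (gBase he hv)).obj W)) :=
  CommRingCat.ofHom
    { toFun := fun t => (exists_img he hs hv W t).choose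
      map_one' := IsImg.unique he hs hv (exists_img he hs hv W 1).choose_spec fun y hy => by
        rw [map_one, map_one, map_one]
      map_mul' := fun a b => IsImg.unique he hs hv (exists_img he hs hv W (a * b)).choose_spec fun y hy => by
        rw [map_mul, map_mul, map_mul, (exists_img he hs hv W a).choose_spec y hy,
          (exists_img he hs hv W b).choose_spec y hy]
      map_zero' := IsImg.unique he hs hv (exists_img he hs hv W 0).choose_spec fun y hy => by
        rw [map_zero, map_zero, map_zero]
      map_add' := fun a b => IsImg.unique he hs hv (exists_img he hs hv W (a + b)).choose_spec fun y hy => by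
        rw [map_add, map_add, map_add, (exists_img he hs hv W a).choose_spec y hy,
          (exists_img he hs hv W b).choose_spec y hy] }

theorem germ_app (W : Opens Z.toTopCat) (t : Z.presheaf.obj (op W)) (y : Y.toTopCat) (hy : gFun he hv y ∈ W) :
    Y.presheaf.germ ((Opens.map (gBase he hv)).obj W) y hy (app he hs hv W t) =
      psi he hs hv y (Z.presheaf.germ W _ hy t) :=
  (exists_img he hs hv W t).choose_spec y hy

/-- The factorisation as a morphism of presheafed spaces. -/
def pMap : Y.toPresheafedSpace ⟶ Z.toPresheafedSpace where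
  base := gBase he hv
  c :=
    { app := fun W => app he hs hv W.unop
      naturality := fun W W' φ => by
        refine CommRingCat.hom_ext (RingHom.ext fun t => ?_)
        refine TopCat.Presheaf.section_ext Y.sheaf _ _ _ fun y hy => ?_
        show Y.presheaf.germ _ y hy (app he hs hv W'.unop (Z.presheaf.map φ t)) =
          Y.presheaf.germ _ y hy (Y.presheaf.map ((Opens.map (gBase he hv)).map φ.unop).op (app he hs hv W.unop t))
        rw [germ_app]
        refine Eq.trans ?_ (Y.presheaf.germ_res_apply _ _ _ _).symm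
        refine Eq.trans ?_ (germ_app he hs hv W.unop t y (leOfHom φ.unop hy)).symm
        exact congrArg _ (Z.presheaf.germ_res_apply φ.unop _ _ t) }

theorem pMap_stalkMap (y : Y.toTopCat) : (pMap he hs hv).stalkMap y = psi he hs hv y := by
  refine TopCat.Presheaf.stalk_hom_ext _ fun W hy => CommRingCat.hom_ext (RingHom.ext fun t => ?_)
  exact (PresheafedSpace.stalkMap_germ_apply (pMap he hs hv) W y hy t).trans (germ_app he hs hv W t y hy)

include he hs hv in
theorem exists_factor : ∃ g : Y ⟶ Z, g ≫ i = f := by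
  have hl : ∀ y, IsLocalHom ((pMap he hs hv).stalkMap y).hom := fun y => ⟨fun a ha => by
    obtain ⟨w, rfl⟩ := hs _ a
    refine IsUnit.map (i.stalkMap (gFun he hv y)).hom ?_
    rw [pMap_stalkMap] at ha
    have hc : IsUnit (comap he hv y w) := by
      rw [← psi_spec he hs hv y]
      exact ha
    have := f.prop y
    have hu : IsUnit ((X.presheaf.stalkCongr (Inseparable.of_eq (gFun_spec he hv y))).hom w) :=
      isUnit_of_map_unit (f.stalkMap y).hom _ hc
    simpa using hu.map (X.presheaf.stalkCongr (Inseparable.of_eq (gFun_spec he hv y))).inv.hom⟩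
  let g : Y ⟶ Z := ⟨pMap he hs hv, hl⟩
  refine ⟨g, LocallyRingedSpace.forgetToSheafedSpace.map_injective
    (SheafedSpace.hom_stalk_ext _ _ (gBase_comp he hv) fun y => ?_)⟩
  refine (LocallyRingedSpace.stalkMap_comp g i y).trans ?_
  show i.stalkMap (gFun he hv y) ≫ (pMap he hs hv).stalkMap y = _
  rw [pMap_stalkMap, psi_spec]
  rfl

theorem vanish_of_fac {g : Y ⟶ Z} (h : g ≫ i = f) (U : Opens X.toTopCat) (s : X.presheaf.obj (op U))
    (h0 : i.c.app (op U) s = 0) : f.c.app (op U) s = 0 := by
  subst h
  rw [LocallyRingedSpace.comp_c_app]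
  show g.c.app _ (i.c.app (op U) s) = 0
  rw [h0]
  exact map_zero _

end Groth.Agent.LRSFactor2
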